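import Mathlib

/-!
# Places of `ℂ` over a prime, integral matrices and reductions

A valuation subring of `ℂ` in which `p` is not a unit; every representation of a finite group has a
matrix form over it, and every subspace has integral vectors with independent reductions.
-/

set_option autoImplicit false

namespace Cfsg.Agent.PrimeSpherical

open Matrix

/-- There is a valuation subring of `ℂ` in which `p` is not a unit. -/
theorem exists_place {p : ℕ} (hp : p.Prime) : ∃ V : ValuationSubring ℂ, (p : ℂ) ∈ V.nonunits := by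
  set A : Subring ℂ := (Int.castRingHom ℂ).range
  set x : A := ⟨(p : ℂ), ⟨(p : ℤ), by simp⟩⟩
  obtain ⟨V, -, hV⟩ := Ideal.image_subset_nonunits_valuationSubring (Ideal.span {x}) (fun h => by
    rw [Ideal.span_singleton_eq_top] at h
    obtain ⟨⟨a, n, hn⟩, ha⟩ := h.exists_right_inv
    have h1 : ((p : ℤ) : ℂ) * ((n : ℤ) : ℂ) = ((1 : ℤ) : ℂ) := by
      have := congrArg Subtype.val ha
      simp only [Int.cast_natCast, Int.cast_one]
      have hn' : ((n : ℤ) : ℂ) = a := hn
      rw [hn']
      exact this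
    have h2 : (p : ℤ) * n = 1 := by exact_mod_cast h1
    rcases Int.eq_one_or_neg_one_of_mul_eq_one h2 with h3 | h3
    · exact hp.ne_one (by exact_mod_cast h3)
    · omega)
  exact ⟨V, hV ⟨x, Ideal.mem_span_singleton_self x, rfl⟩⟩

variable {V : ValuationSubring ℂ}

theorem mul_mem_nonunits {x y : ℂ} (hx : x ∈ V) (hy : y ∈ V.nonunits) : x * y ∈ V.nonunits := by
  rw [ValuationSubring.mem_nonunits_iff] at hy ⊢
  rw [map_mul]
  exact lt_of_le_of_lt (mul_le_of_le_one_left' ((V.valuation_le_one_iff x).2 hx)) hy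

theorem one_notMem_nonunits : (1 : ℂ) ∉ V.nonunits := by
  rw [ValuationSubring.mem_nonunits_iff, map_one]
  exact lt_irrefl _

theorem inv_mem_of_notMem_nonunits {x : ℂ} (h : x ∉ V.nonunits) : x⁻¹ ∈ V := by
  rw [ValuationSubring.mem_nonunits_iff_or, not_or, not_not] at h
  exact h.2

theorem mem_of_integral {x : ℂ} (hx : IsIntegral ℤ x) : x ∈ V := by
  have h : IsIntegral V x := hx.tower_top
  obtain ⟨y, rfl⟩ := IsIntegrallyClosed.isIntegral_iff.1 h
  exact y.2

theorem natCast_notMem_nonunits {p n : ℕ} (hp : p.Prime) (hV : (p : ℂ) ∈ V.nonunits)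
    (hn : ¬ p ∣ n) : (n : ℂ) ∉ V.nonunits := by
  intro h
  have hb := Nat.gcd_eq_gcd_ab p n
  rw [show Nat.gcd p n = 1 from hp.coprime_iff_not_dvd.2 hn] at hb
  have h1 : ((1 : ℕ) : ℂ) = ((Nat.gcdA p n : ℤ) : ℂ) * (p : ℂ) + ((Nat.gcdB p n : ℤ) : ℂ) * (n : ℂ) := by
    have := congrArg (fun z : ℤ => (z : ℂ)) hb
    push_cast at this
    push_cast
    rw [this]
    ring
  refine one_notMem_nonunits (V := V) ?_
  rw [← Nat.cast_one, h1]
  exact add_mem (mul_mem_nonunits (intCast_mem V _) hV) (mul_mem_nonunits (intCast_mem V _) h)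

/-- The residue field. -/
abbrev Res (V : ValuationSubring ℂ) := IsLocalRing.ResidueField V

open scoped Classical in
/-- The reduction of a number, zero outside `V`. -/
noncomputable def res (V : ValuationSubring ℂ) (z : ℂ) : Res V :=
  if h : z ∈ V then IsLocalRing.residue V ⟨z, h⟩ else 0

theorem res_eq {z : ℂ} (h : z ∈ V) : res V z = IsLocalRing.residue V ⟨z, h⟩ := dif_pos h

theorem res_add {x y : ℂ} (hx : x ∈ V) (hy : y ∈ V) : res V (x + y) = res V x + res V y := by
  rw [res_eq hx, res_eq hy, res_eq (add_mem hx hy), ← map_add]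
  rfl

theorem res_mul {x y : ℂ} (hx : x ∈ V) (hy : y ∈ V) : res V (x * y) = res V x * res V y := by
  rw [res_eq hx, res_eq hy, res_eq (mul_mem hx hy), ← map_mul]
  rfl

theorem res_zero : res V 0 = 0 := by
  rw [res_eq (zero_mem V)]
  exact map_zero _

theorem res_one : res V 1 = 1 := by
  rw [res_eq (one_mem V)]
  exact map_one _

theorem res_natCast (n : ℕ) : res V (n : ℂ) = n := by
  induction n with
  | zero => simpa using res_zero
  | succ n ih => push_cast; rw [res_add (natCast_mem V n) (one_mem V), ih, res_one]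

theorem res_eq_zero_iff {x : ℂ} (hx : x ∈ V) : res V x = 0 ↔ x ∈ V.nonunits := by
  rw [res_eq hx, IsLocalRing.residue_eq_zero_iff, ← ValuationSubring.coe_mem_nonunits_iff]

theorem res_sum {ι : Type*} (s : Finset ι) (f : ι → ℂ) (hf : ∀ i ∈ s, f i ∈ V) :
    res V (∑ i ∈ s, f i) = ∑ i ∈ s, res V (f i) := by
  classical
  induction s using Finset.induction_on with
  | empty => simpa using res_zero
  | insert a s ha ih =>
    rw [Finset.sum_insert ha, Finset.sum_insert ha,
      res_add (hf a (Finset.mem_insert_self a s))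
        (sum_mem fun i hi => hf i (Finset.mem_insert_of_mem hi)),
      ih fun i hi => hf i (Finset.mem_insert_of_mem hi)]

theorem exists_lift (r : Res V) : ∃ z ∈ V, res V z = r := by
  obtain ⟨⟨z, hz⟩, h⟩ := IsLocalRing.residue_surjective r
  exact ⟨z, hz, by rw [res_eq hz, h]⟩

theorem res_mulVec {d : ℕ} {A : Matrix (Fin d) (Fin d) ℂ} {v : Fin d → ℂ}
    (hA : ∀ i j, A i j ∈ V) (hv : ∀ i, v i ∈ V) (i : Fin d) :
    res V ((A *ᵥ v) i) = (A.map (res V) *ᵥ fun j => res V (v j)) i := by
  rw [Matrix.mulVec, dotProduct, res_sum _ _ fun j _ => mul_mem (hA i j) (hv j)]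
  exact Finset.sum_congr rfl fun j _ => res_mul (hA i j) (hv j)

theorem mem_mulVec {d : ℕ} {A : Matrix (Fin d) (Fin d) ℂ} {v : Fin d → ℂ}
    (hA : ∀ i j, A i j ∈ V) (hv : ∀ i, v i ∈ V) (i : Fin d) : (A *ᵥ v) i ∈ V := by
  rw [Matrix.mulVec, dotProduct]
  exact sum_mem fun j _ => mul_mem (hA i j) (hv j)

theorem map_res_mul {d : ℕ} {A B : Matrix (Fin d) (Fin d) ℂ} (hA : ∀ i j, A i j ∈ V)
    (hB : ∀ i j, B i j ∈ V) : (A * B).map (res V) = A.map (res V) * B.map (res V) := by
  ext i j
  rw [Matrix.map_apply, Matrix.mul_apply, Matrix.mul_apply,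
    res_sum _ _ fun k _ => mul_mem (hA i k) (hB k j)]
  exact Finset.sum_congr rfl fun k _ => res_mul (hA i k) (hB k j)

theorem map_res_one {d : ℕ} : (1 : Matrix (Fin d) (Fin d) ℂ).map (res V) = 1 :=
  Matrix.map_one _ res_zero res_one

/-- A subspace has integral vectors, as many as its dimension, with independent reductions. -/
theorem exists_integral_indep {d : ℕ} : ∀ (r : ℕ) (W : Submodule ℂ (Fin d → ℂ)),
    Module.finrank ℂ W = r →
    ∃ w : Fin r → (Fin d → ℂ), (∀ k, w k ∈ W) ∧ (∀ k i, w k i ∈ V) ∧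
      LinearIndependent (Res V) (fun k i => res V (w k i)) := by
  intro r
  induction r with
  | zero => exact fun W _ => ⟨fun k => k.elim0, fun k => k.elim0, fun k => k.elim0,
      linearIndependent_empty_type⟩
  | succ r ih =>
    intro W hW
    have hne : W ≠ ⊥ := fun h => by rw [h, finrank_bot] at hW; omega
    obtain ⟨x, hx, hx0⟩ := Submodule.exists_mem_ne_zero_of_ne_bot hne
    obtain ⟨a, ha⟩ := Function.ne_iff.1 hx0
    have : Nonempty (Fin d) := ⟨a⟩
    obtain ⟨i, hi⟩ := Finite.exists_max fun i => V.valuation (x i)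
    have hxi : x i ≠ 0 := fun h => by
      have h1 := hi a
      simp only [h, map_zero, nonpos_iff_eq_zero, map_eq_zero] at h1
      exact ha h1
    set y : Fin d → ℂ := (x i)⁻¹ • x with hydef
    have hyi : y i = 1 := by simp [hydef, hxi]
    have hyV : ∀ j, y j ∈ V := fun j => by
      rw [← V.valuation_le_one_iff, hydef, Pi.smul_apply, smul_eq_mul, map_mul, map_inv₀,
        ← div_eq_inv_mul, div_le_one₀ (zero_lt_iff.2 ((map_ne_zero _).2 hxi))]
      exact hi j
    have hyW : y ∈ W := W.smul_mem _ hx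
    set W' : Submodule ℂ (Fin d → ℂ) := W ⊓ LinearMap.ker (LinearMap.proj i) with hW'def
    have hW' : Module.finrank ℂ W' = r := by
      let π : W →ₗ[ℂ] ℂ := (LinearMap.proj i : (Fin d → ℂ) →ₗ[ℂ] ℂ).comp W.subtype
      have hr : LinearMap.range π = ⊤ := LinearMap.range_eq_top.2 fun c =>
        ⟨c • ⟨y, hyW⟩, by simp [π, hyi]⟩
      have h1 := LinearMap.finrank_range_add_finrank_ker π
      rw [hr, finrank_top, Module.finrank_self, hW] at h1
      have h2 : (LinearMap.ker π).map W.subtype = W' := by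
        ext z
        simp only [hW'def, Submodule.mem_map, LinearMap.mem_ker, Submodule.mem_inf]
        exact ⟨fun ⟨z', hz', e⟩ => e ▸ ⟨z'.2, hz'⟩, fun ⟨h, h'⟩ => ⟨⟨z, h⟩, h', rfl⟩⟩
      rw [← h2, LinearEquiv.finrank_eq (Submodule.equivMapOfInjective _ W.injective_subtype _).symm]
      omega
    obtain ⟨w, hwW, hwV, hind⟩ := ih W' hW'
    refine ⟨Fin.cons y w, fun k => ?_, fun k j => ?_, ?_⟩
    · refine Fin.cases ?_ (fun k => ?_) k
      · simpa using hyW
      · simpa using (Submodule.mem_inf.1 (hwW k)).1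
    · refine Fin.cases ?_ (fun k => ?_) k
      · simpa using hyV j
      · simpa using hwV k j
    · have e : (fun k j => res V ((Fin.cons y w : Fin (r + 1) → Fin d → ℂ) k j)) =
          Fin.cons (fun j => res V (y j)) (fun k j => res V (w k j)) := by
        funext k
        refine Fin.cases ?_ (fun k => ?_) k <;> simp
      rw [e, linearIndependent_finCons]
      refine ⟨hind, fun h => ?_⟩
      have hle : Submodule.span (Res V) (Set.range fun k j => res V (w k j)) ≤
          LinearMap.ker (LinearMap.proj i) := by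
        refine Submodule.span_le.2 ?_
        rintro _ ⟨k, rfl⟩
        have h0 : w k i = 0 := (Submodule.mem_inf.1 (hwW k)).2
        show res V (w k i) = 0
        rw [h0, res_zero]
      have h0 : res V (y i) = 0 := hle h
      rw [hyi, res_one] at h0
      exact one_ne_zero h0

variable {G : Type*} [Group G] [Finite G]

/-- Every representation has a matrix form over `V`. -/
theorem exists_integral_matrix (V : ValuationSubring ℂ) {d : ℕ}
    (ρ : Representation ℂ G (Fin d → ℂ)) :
    ∃ (A : G →* Matrix (Fin d) (Fin d) ℂ) (B : Matrix (Fin d) (Fin d) ℂ),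
      (∀ g i j, A g i j ∈ V) ∧ IsUnit B.det ∧
      (∀ g, A g = B⁻¹ * LinearMap.toMatrix' (ρ g) * B) ∧
      ∀ g, (A g).trace = ρ.character g := by
  classical
  let M : G → Matrix (Fin d) (Fin d) ℂ := fun g => LinearMap.toMatrix' (ρ g)
  have hM1 : M 1 = 1 := by simp [M, Module.End.one_eq_id]
  have hMmul : ∀ g h, M (g * h) = M g * M h := fun g h => by
    simp [M, LinearMap.toMatrix'_mul]
  let col : G × Fin d → Fin d → ℂ := fun a i => M a.1 i a.2
  let mk : (Fin d → G × Fin d) → Matrix (Fin d) (Fin d) ℂ :=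
    fun s => Matrix.of fun i k => col (s k) i
  have : Nonempty (Fin d → G × Fin d) := ⟨fun k => (1, k)⟩
  obtain ⟨s, hs⟩ := Finite.exists_max fun s => V.valuation (mk s).det
  have hdet : (mk s).det ≠ 0 := fun h => by
    have h1 := hs fun k => (1, k)
    rw [show mk (fun k => (1, k)) = 1 by ext i k; simp [mk, col, hM1]] at h1
    simp only [h, map_zero, nonpos_iff_eq_zero, map_eq_zero, Matrix.det_one] at h1
    exact one_ne_zero h1
  set B := mk s with hB
  have hu : IsUnit B.det := isUnit_iff_ne_zero.2 hdet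
  let A : G →* Matrix (Fin d) (Fin d) ℂ :=
    { toFun := fun g => B⁻¹ * M g * B
      map_one' := by rw [hM1, Matrix.mul_one, Matrix.nonsing_inv_mul _ hu]
      map_mul' := fun g h => by
        rw [hMmul]
        simp only [Matrix.mul_assoc]
        rw [← Matrix.mul_assoc B B⁻¹, Matrix.mul_nonsing_inv _ hu, Matrix.one_mul] }
  refine ⟨A, B, fun g j k => ?_, hu, fun g => rfl, fun g => ?_⟩
  · show (B⁻¹ * M g * B) j k ∈ V
    have e1 : (B⁻¹ * M g * B) j k = (B⁻¹ *ᵥ col (g * (s k).1, (s k).2)) j := by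
      rw [Matrix.mul_assoc]
      simp only [Matrix.mul_apply, Matrix.mulVec, dotProduct]
      refine Finset.sum_congr rfl fun i _ => congrArg _ ?_
      simp only [col, hMmul, Matrix.mul_apply]
      rfl
    have e2 : B.updateCol j (col (g * (s k).1, (s k).2)) =
        mk (Function.update s j (g * (s k).1, (s k).2)) := by
      ext i l
      by_cases hl : l = j
      · subst hl; simp [mk]
      · simp [mk, hB, Matrix.updateCol_ne hl, Function.update_of_ne hl]
    rw [e1, Matrix.inv_def, Matrix.smul_mulVec, ← Matrix.cramer_eq_adjugate_mulVec,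
      Pi.smul_apply, Matrix.cramer_apply, e2, smul_eq_mul, Ring.inverse_eq_inv',
      ← V.valuation_le_one_iff, map_mul, map_inv₀, ← div_eq_inv_mul,
      div_le_one₀ (zero_lt_iff.2 ((map_ne_zero _).2 hdet))]
    exact hs _
  · show (B⁻¹ * M g * B).trace = _
    rw [Matrix.trace_mul_cycle, Matrix.mul_nonsing_inv _ hu, Matrix.one_mul]
    exact (LinearMap.trace_eq_matrix_trace ℂ (Pi.basisFun ℂ (Fin d)) (ρ g)).trans
      (by rw [LinearMap.toMatrix_eq_toMatrix']) |>.symm

end Cfsg.Agent.PrimeSpherical
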