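import Mathlib

/-!
# Sums over sets with a free action
-/

set_option autoImplicit false

namespace Cfsg.Agent.PrimeSpherical

/-- A sum over an invariant set on which `K` acts freely, by orbit representatives. -/
theorem sum_free_orbits {K X M : Type*} [Group K] [Fintype K] [MulAction K X] [AddCommMonoid M]
    [DecidableEq X] (F : X → M) :
    ∀ S : Finset X, (∀ x ∈ S, ∀ k : K, k • x ∈ S) → (∀ x ∈ S, ∀ k : K, k • x = x → k = 1) →
      ∃ R ⊆ S, ∑ x ∈ S, F x = ∑ r ∈ R, ∑ k : K, F (k • r) := by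
  intro S
  induction S using Finset.strongInductionOn with
  | _ S ih =>
  intro hinv hfree
  rcases S.eq_empty_or_nonempty with rfl | ⟨x, hx⟩
  · exact ⟨∅, subset_rfl, by simp⟩
  set O : Finset X := Finset.univ.image fun k : K => k • x with hO
  have hOS : O ⊆ S := fun y hy => by
    obtain ⟨k, -, rfl⟩ := Finset.mem_image.1 hy
    exact hinv x hx k
  have hxO : x ∈ O := Finset.mem_image.2 ⟨1, Finset.mem_univ _, one_smul K x⟩
  have hlt : S \ O ⊂ S := Finset.sdiff_ssubset hOS ⟨x, hxO⟩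
  obtain ⟨R, hR, he⟩ := ih _ hlt (fun y hy k => by
      rw [Finset.mem_sdiff] at hy ⊢
      refine ⟨hinv y hy.1 k, fun h => hy.2 ?_⟩
      obtain ⟨l, -, hl⟩ := Finset.mem_image.1 h
      exact Finset.mem_image.2 ⟨k⁻¹ * l, Finset.mem_univ _, by rw [mul_smul, hl, inv_smul_smul]⟩)
    (fun y hy => hfree y (Finset.mem_sdiff.1 hy).1)
  have hxR : x ∉ R := fun h => (Finset.mem_sdiff.1 (hR h)).2 hxO
  refine ⟨insert x R, Finset.insert_subset hx (hR.trans Finset.sdiff_subset), ?_⟩
  rw [Finset.sum_insert hxR, ← he, ← Finset.sum_sdiff hOS, add_comm, hO]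
  congr 1
  refine Finset.sum_image fun a _ b _ hab => ?_
  have : a⁻¹ * b = 1 := hfree x hx _ (by
    rw [mul_smul]
    exact inv_smul_eq_iff.2 hab.symm)
  exact inv_mul_eq_one.1 this

end Cfsg.Agent.PrimeSpherical
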