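import Mathlib
import Cfsg.Agent.Char.Ortho
import Cfsg.Agent.PrimeSpherical.Lattice
import Cfsg.Agent.PrimeSpherical.Orbit

/-!
# Eigen-coefficient functions of characters with many fixed points of a group of prime order

If an irreducible character of degree `d` has a fixed space of dimension `a` with `d < p * a` under
a subgroup `P` of order `p`, then some matrix coefficient is an eigenfunction of the normalizer of
`P` on both sides, has value one at `1`, and `p` times it lies in the maximal ideal of a place over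
`p`.
-/

set_option autoImplicit false

namespace Cfsg.Agent.PrimeSpherical

open Matrix Cfsg.Agent
open scoped _root_.Classical

universe u

variable {G : Type u} [Group G] [Fintype G]

/-- A subgroup of prime order with a faithful linear character of its normalizer modulo it. -/
structure Ctx (P : Subgroup G) (p e : ℕ) where
  lam : Subgroup.normalizer (P : Set G) →* ℂˣ
  cardP : Nat.card P = p
  cardN : Nat.card (Subgroup.normalizer (P : Set G)) = p * e
  ker : ∀ n, lam n = 1 ↔ (n : G) ∈ P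
  pow : ∀ n, lam n ^ e = 1
  he : ¬ p ∣ e

variable {P : Subgroup G} {p e : ℕ}

local notation "NN" => Subgroup.normalizer (SetLike.coe P)

/-- The powers of the linear character. -/
noncomputable def Ctx.mu (C : Ctx P p e) (j : ℕ) : NN →* ℂ := (Units.coeHom ℂ).comp (C.lam ^ j)

omit [Fintype G] in
theorem Ctx.mu_apply (C : Ctx P p e) (j : ℕ) (n : NN) : C.mu j n = ((C.lam n : ℂˣ) : ℂ) ^ j := by
  simp [Ctx.mu]

omit [Fintype G] in
theorem Ctx.mu_of_mem (C : Ctx P p e) (j : ℕ) {n : NN} (hn : (n : G) ∈ P) : C.mu j n = 1 := by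
  rw [C.mu_apply, (C.ker n).2 hn, Units.val_one, one_pow]

omit [Fintype G] in
theorem Ctx.mu_zero (C : Ctx P p e) (n : NN) : C.mu 0 n = 1 := by rw [C.mu_apply, pow_zero]

omit [Fintype G] in
theorem Ctx.e_pos (C : Ctx P p e) : 0 < e := Nat.pos_of_ne_zero fun h => C.he (by simp [h])

omit [Fintype G] in
theorem Ctx.isIntegral_mu (C : Ctx P p e) (j : ℕ) (n : NN) : IsIntegral ℤ (C.mu j n) :=
  IsIntegral.of_pow C.e_pos (by
    rw [C.mu_apply, ← pow_mul, mul_comm, pow_mul, ← Units.val_pow_eq_pow_val, C.pow,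
      Units.val_one, one_pow]
    exact isIntegral_one)

omit [Fintype G] in
theorem Ctx.mu_mul_inv (C : Ctx P p e) (j : ℕ) (n : NN) : C.mu j n * C.mu j n⁻¹ = 1 := by
  rw [← map_mul, mul_inv_cancel, map_one]

omit [Fintype G] in
theorem Ctx.sum_mu (C : Ctx P p e) (n : NN) [Decidable ((n : G) ∈ P)] :
    ∑ j ∈ Finset.range e, C.mu j n = if (n : G) ∈ P then (e : ℂ) else 0 := by
  simp only [C.mu_apply]
  split_ifs with h
  · simp [(C.ker n).2 h]
  · have h1 : ((C.lam n : ℂˣ) : ℂ) ≠ 1 := fun e' => h ((C.ker n).1 (Units.ext e'))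
    rw [geom_sum_eq h1, ← Units.val_pow_eq_pow_val, C.pow, Units.val_one, sub_self, zero_div]

/-- An eigenfunction attached to a character. -/
structure Wit (V : ValuationSubring ℂ) (C : Ctx P p e) (χ : G → ℂ) (j : ℕ) (c : G → ℂ) :
    Prop where
  left : ∀ (n : NN) (g : G), c (n * g) = C.mu j n * c g
  right : ∀ (n : NN) (g : G), c (g * n) = c g * C.mu j n
  one : c 1 = 1
  small : ∀ g, (p : ℂ) * c g ∈ V.nonunits
  orth : ∀ ψ : G → ℂ, Cfsg.IsIrrCharacter G ψ → ψ ≠ χ → ∀ h : G, ∑ g, ψ (g * h) * c g⁻¹ = 0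
  mult : ∑ n : NN, C.mu j n⁻¹ * χ n ≠ 0
  canon : ∑ n : NN, C.mu j n⁻¹ * χ n = (p : ℂ) * e → ∀ g : G,
    c g = ((p : ℂ) * e)⁻¹ * ∑ n : NN, C.mu j n⁻¹ * χ (g * n)

/-- `p` times the rank of `f ^ (p - 1)` is at most the dimension when `f ^ p = 0`. -/
theorem mul_rank_pow_le {k M : Type*} [Field k] [AddCommGroup M] [Module k M]
    [FiniteDimensional k M] (f : Module.End k M) {p : ℕ} (hp : 0 < p) (hf : f ^ p = 0) :
    p * Module.finrank k (LinearMap.range (f ^ (p - 1))) ≤ Module.finrank k M := by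
  set r := Module.finrank k (LinearMap.range (f ^ (p - 1)))
  have key : ∀ m ≤ p, m * r ≤ Module.finrank k (LinearMap.range (f ^ (p - m))) := by
    intro m
    induction m with
    | zero => intro _; simp
    | succ m ih =>
      intro hm
      have ih' := ih (by omega)
      obtain ⟨i, hi⟩ : ∃ i, i = p - (m + 1) := ⟨_, rfl⟩
      rw [← hi]
      rw [show p - m = i + 1 by omega] at ih'
      let R := LinearMap.range (f ^ i)
      let g : R →ₗ[k] M := f.comp R.subtype
      have h1 := LinearMap.finrank_range_add_finrank_ker g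
      have h2 : LinearMap.range g = LinearMap.range (f ^ (i + 1)) := by
        rw [pow_succ', Module.End.mul_eq_comp, LinearMap.range_comp, LinearMap.range_comp,
          Submodule.range_subtype]
      have h3 : r ≤ Module.finrank k (LinearMap.ker g) := by
        have hle : LinearMap.range (f ^ (p - 1)) ≤ (LinearMap.ker g).map R.subtype := by
          rintro x ⟨y, rfl⟩
          refine ⟨⟨(f ^ (p - 1)) y, ⟨(f ^ (p - 1 - i)) y, ?_⟩⟩, ?_, rfl⟩
          · rw [← Module.End.mul_apply, ← pow_add]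
            congr 2
            omega
          · show f ((f ^ (p - 1)) y) = 0
            rw [← Module.End.mul_apply, ← pow_succ', show p - 1 + 1 = p by omega, hf]
            rfl
        exact (Submodule.finrank_mono hle).trans_eq
          (LinearEquiv.finrank_eq (Submodule.equivMapOfInjective _ R.injective_subtype _).symm)
      rw [h2] at h1
      rw [add_mul, one_mul]
      show m * r + r ≤ Module.finrank k R
      omega
  have h := key p le_rfl
  rw [Nat.sub_self, pow_zero] at h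
  rwa [show LinearMap.range (1 : Module.End k M) = ⊤ from LinearMap.range_id, finrank_top] at h

/-- In characteristic `p` the geometric sum is the power of `x - 1`. -/
theorem geom_sum_char {k R : Type*} [Field k] [Ring R] [Algebra k R] {p : ℕ} [Fact p.Prime]
    [CharP k p] (x : R) : ∑ i ∈ Finset.range p, x ^ i = (x - 1) ^ (p - 1) := by
  have h : (∑ i ∈ Finset.range p, (Polynomial.X : Polynomial k) ^ i) =
      (Polynomial.X - 1) ^ (p - 1) := by
    refine mul_right_cancel₀ (Polynomial.X_sub_C_ne_zero (1 : k)) ?_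
    rw [map_one, geom_sum_mul, ← pow_succ,
      show p - 1 + 1 = p by have := (Fact.out : p.Prime).pos; omega,
      sub_pow_char, one_pow]
  simpa using congrArg (Polynomial.aeval x) h

/-- An idempotent matrix of trace zero over `ℂ` vanishes. -/
theorem idem_eq_zero {d : ℕ} {Q : Matrix (Fin d) (Fin d) ℂ} (hQ : Q * Q = Q) (ht : Q.trace = 0) :
    Q = 0 := by
  have hi : IsIdempotentElem (Matrix.toLin' Q) := by
    show Matrix.toLin' Q * Matrix.toLin' Q = _
    rw [Module.End.mul_eq_comp, ← Matrix.toLin'_mul, hQ]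
  have h := (LinearMap.isProj_range_iff_isIdempotentElem _).2 hi |>.trace
  rw [LinearMap.trace_eq_matrix_trace ℂ (Pi.basisFun ℂ (Fin d)),
    LinearMap.toMatrix_eq_toMatrix', LinearMap.toMatrix'_toLin', ht] at h
  have h1 : LinearMap.range (Matrix.toLin' Q) = ⊥ :=
    Submodule.finrank_eq_zero.1 (Nat.cast_eq_zero.1 h.symm)
  exact Matrix.toLin'.injective ((LinearMap.range_eq_bot.1 h1).trans (map_zero _).symm)

variable [hp : Fact p.Prime] {V : ValuationSubring ℂ}

open scoped Classical in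
/-- Characters with a large fixed space have eigenfunctions. -/
theorem exists_wit (hV : (p : ℂ) ∈ V.nonunits) (C : Ctx P p e) {χ : G → ℂ}
    (hχ : Cfsg.IsIrrCharacter G χ) {d a : ℕ} (hd : χ 1 = d) (hsum : ∑ u : P, χ u = (p : ℂ) * a)
    (hlt : d < p * a) : ∃ j < e, ∃ c : G → ℂ, Wit V C χ j c := by
  obtain ⟨n, ρ, hρ, rfl⟩ := hχ
  obtain rfl : n = d := by
    rw [Representation.char_one, Module.finrank_fin_fun] at hd
    exact_mod_cast hd
  obtain ⟨A, B, hAV, hu, hAB, htr⟩ := exists_integral_matrix V ρ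
  have hpc : (p : ℂ) ≠ 0 := Nat.cast_ne_zero.2 hp.out.ne_zero
  have hec : (e : ℂ) ≠ 0 := Nat.cast_ne_zero.2 C.e_pos.ne'
  have heV : (e : ℂ)⁻¹ ∈ V := inv_mem_of_notMem_nonunits (natCast_notMem_nonunits hp.out hV C.he)
  set T : Matrix (Fin n) (Fin n) ℂ := ∑ u : P, A u with hT
  have hTV : ∀ i k, T i k ∈ V := fun i k => by
    rw [hT, Matrix.sum_apply]
    exact sum_mem fun u _ => hAV _ i k
  have hfix : ∀ u ∈ P, A u * T = T := fun u hu => by
    rw [hT, Finset.mul_sum]
    exact Fintype.sum_equiv (Equiv.mulLeft (⟨u, hu⟩ : P)) _ _ fun v => by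
      rw [← map_mul]; rfl
  have hTT : T * T = (p : ℂ) • T := by
    conv_lhs => arg 1; rw [hT]
    rw [Finset.sum_mul, Finset.sum_congr rfl fun (u : P) _ => hfix u u.2, Finset.sum_const,
      Finset.card_univ, ← Nat.card_eq_fintype_card, C.cardP, ← Nat.cast_smul_eq_nsmul ℂ]
  -- the fixed space
  set W := LinearMap.range (Matrix.toLin' ((p : ℂ)⁻¹ • T))
  have hW : Module.finrank ℂ W = a := by
    have hi : IsIdempotentElem (Matrix.toLin' ((p : ℂ)⁻¹ • T)) := by
      show Matrix.toLin' ((p : ℂ)⁻¹ • T) * Matrix.toLin' ((p : ℂ)⁻¹ • T) = _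
      rw [Module.End.mul_eq_comp, ← Matrix.toLin'_mul, Matrix.smul_mul, Matrix.mul_smul, hTT,
        inv_smul_smul₀ hpc]
    have h := (LinearMap.isProj_range_iff_isIdempotentElem _).2 hi |>.trace
    rw [LinearMap.trace_eq_matrix_trace ℂ (Pi.basisFun ℂ (Fin n)),
      LinearMap.toMatrix_eq_toMatrix', LinearMap.toMatrix'_toLin', Matrix.trace_smul, hT,
      Matrix.trace_sum, Finset.sum_congr rfl fun u _ => htr _, hsum, smul_eq_mul, ← mul_assoc,
      inv_mul_cancel₀ hpc, one_mul] at h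
    exact_mod_cast h.symm
  have hWfix : ∀ w ∈ W, ∀ u ∈ P, A u *ᵥ w = w := by
    rintro w ⟨z, rfl⟩ u hu
    rw [Matrix.toLin'_apply, Matrix.mulVec_mulVec, Matrix.mul_smul, hfix u hu]
  have hTfix : ∀ w, (∀ u ∈ P, A u *ᵥ w = w) → T *ᵥ w = (p : ℂ) • w := fun w hw => by
    rw [hT, Matrix.sum_mulVec, Finset.sum_congr rfl fun (u : P) _ => hw u u.2, Finset.sum_const,
      Finset.card_univ, ← Nat.card_eq_fintype_card, C.cardP, ← Nat.cast_smul_eq_nsmul ℂ]
  obtain ⟨ws, hwsW, hwsV, hind⟩ := exists_integral_indep (V := V) a W hW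
  -- the reduction of `T` has small rank
  have hk : CharP (Res V) p := by
    refine (CharP.charP_iff_prime_eq_zero hp.out).2 ?_
    rw [← res_natCast (V := V), res_eq_zero_iff (natCast_mem V p)]
    exact hV
  set Tb : Module.End (Res V) (Fin n → Res V) := Matrix.toLin' (T.map (res V)) with hTb
  have hTrk : p * Module.finrank (Res V) (LinearMap.range Tb) ≤ n := by
    obtain ⟨u₀, hu₀⟩ := exists_prime_orderOf_dvd_card' (G := P) p C.cardP.symm.dvd
    have hbij : Function.Bijective fun i : Fin p => u₀ ^ (i : ℕ) := by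
      refine (Fintype.bijective_iff_injective_and_card _).2 ⟨fun i k h => Fin.ext
        (pow_injOn_Iio_orderOf (by simp [hu₀]) (by simp [hu₀]) h), ?_⟩
      rw [Fintype.card_fin, ← Nat.card_eq_fintype_card, C.cardP]
    set x : Matrix (Fin n) (Fin n) (Res V) := (A u₀).map (res V)
    have hx : ∀ i : ℕ, (A ((u₀ ^ i : P) : G)).map (res V) = x ^ i := by
      intro i
      induction i with
      | zero => rw [pow_zero, OneMemClass.coe_one, map_one, map_res_one, pow_zero]
      | succ i ih =>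
        rw [pow_succ, Subgroup.coe_mul, map_mul, map_res_mul (hAV _) (hAV _), ih, pow_succ]
    have hTx : T.map (res V) = ∑ i ∈ Finset.range p, x ^ i := by
      rw [← Fin.sum_univ_eq_sum_range, Fintype.sum_bijective _ hbij (fun i => x ^ (i : ℕ))
        (fun u : P => (A u).map (res V)) fun i => (hx i).symm]
      ext i k
      rw [Matrix.map_apply, hT, Matrix.sum_apply, Matrix.sum_apply,
        res_sum _ _ fun u _ => hAV _ i k]
      rfl
    set f : Module.End (Res V) (Fin n → Res V) := Matrix.toLinAlgEquiv' x - 1 with hf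
    have hfp : f ^ p = 0 := by
      have hz : x ^ p = 1 := by
        rw [← hx, show u₀ ^ p = 1 from hu₀ ▸ pow_orderOf_eq_one u₀, OneMemClass.coe_one, map_one,
          map_res_one]
      have h1 := geom_sum_mul (Matrix.toLinAlgEquiv' x) p
      rw [geom_sum_char (k := Res V), ← pow_succ,
        show p - 1 + 1 = p by have := hp.out.pos; omega, ← map_pow, hz, map_one, sub_self] at h1
      exact h1
    have hTf : Tb = f ^ (p - 1) := by
      rw [hf, ← geom_sum_char (k := Res V), hTb, hTx]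
      show Matrix.toLinAlgEquiv' (∑ i ∈ Finset.range p, x ^ i) = _
      simp [map_sum, map_pow]
    rw [hTf]
    exact (mul_rank_pow_le f hp.out.pos hfp).trans_eq (Module.finrank_fin_fun _)
  obtain ⟨k₀, hk₀⟩ : ∃ k, (fun i => res V (ws k i)) ∉ LinearMap.range Tb := by
    by_contra hall
    push Not at hall
    have h1 : a ≤ Module.finrank (Res V) (LinearMap.range Tb) := by
      have h2 := LinearIndependent.fintype_card_le_finrank (b := fun k => (⟨_, hall k⟩ :
        LinearMap.range Tb)) (LinearIndependent.of_comp (LinearMap.range Tb).subtype hind)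
      simpa using h2
    exact absurd (lt_of_lt_of_le hlt (Nat.mul_le_mul_left p h1)) (not_lt.2 hTrk)
  set w₀ := ws k₀ with hw₀
  -- the twisted sums over the normalizer
  let Q : ℕ → Matrix (Fin n) (Fin n) ℂ := fun j => ∑ m : NN, C.mu j m⁻¹ • A m
  have hQdec : ∀ j, ∃ R : Finset NN, Q j = T * ∑ r ∈ R, C.mu j r⁻¹ • A r := by
    intro j
    have hPN : P ≤ NN := Subgroup.le_normalizer
    obtain ⟨R, -, hR⟩ := sum_free_orbits (K := P.subgroupOf NN)
      (fun m : NN => C.mu j m⁻¹ • A (m : G)) Finset.univ (fun _ _ _ => Finset.mem_univ _)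
      (fun x _ k hk => by
        apply Subtype.ext
        exact mul_eq_right.1 (show (k : NN) * x = x from hk))
    refine ⟨R, ?_⟩
    show (∑ m : NN, C.mu j m⁻¹ • A m) = _
    rw [hR, Finset.mul_sum]
    refine Finset.sum_congr rfl fun r _ => ?_
    rw [hT, Finset.sum_mul]
    refine Fintype.sum_equiv (Subgroup.subgroupOfEquivOfLe hPN).toEquiv _ _ fun k => ?_
    show C.mu j ((k : NN) * r)⁻¹ • A (((k : NN) * r : NN) : G) = A ((k : NN) : G) * _
    rw [_root_.mul_inv_rev, map_mul, C.mu_of_mem j (n := (k : NN)⁻¹) (inv_mem k.2), mul_one,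
      Subgroup.coe_mul, map_mul, Matrix.mul_smul]
  have hQleft : ∀ j (m : NN), A m * Q j = C.mu j m • Q j := fun j m => by
    simp only [Q, Finset.mul_sum, Finset.smul_sum]
    refine Fintype.sum_equiv (Equiv.mulLeft m) _ _ fun l => ?_
    rw [Equiv.coe_mulLeft, Matrix.mul_smul, smul_smul, _root_.mul_inv_rev, map_mul (C.mu j),
      mul_left_comm, C.mu_mul_inv, mul_one, Subgroup.coe_mul, map_mul]
  have hQright : ∀ j (m : NN), Q j * A m = C.mu j m • Q j := fun j m => by
    simp only [Q, Finset.sum_mul, Finset.smul_sum]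
    refine Fintype.sum_equiv (Equiv.mulRight m) _ _ fun l => ?_
    rw [Equiv.coe_mulRight, Matrix.smul_mul, smul_smul, _root_.mul_inv_rev, map_mul (C.mu j),
      ← mul_assoc, C.mu_mul_inv, one_mul, Subgroup.coe_mul, map_mul]
  have hQeig : ∀ j v, (∀ m : NN, A m *ᵥ v = C.mu j m • v) → Q j *ᵥ v = ((p : ℂ) * e) • v := by
    intro j v hv
    simp only [Q, Matrix.sum_mulVec, Matrix.smul_mulVec]
    rw [Finset.sum_congr rfl fun m _ => by
      rw [hv m, smul_smul, mul_comm, C.mu_mul_inv, one_smul]]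
    rw [Finset.sum_const, Finset.card_univ, ← Nat.card_eq_fintype_card, C.cardN,
      ← Nat.cast_smul_eq_nsmul ℂ, Nat.cast_mul]
  let wj : ℕ → (Fin n → ℂ) := fun j => ((p : ℂ) * e)⁻¹ • (Q j *ᵥ w₀)
  have hwjV : ∀ j i, wj j i ∈ V := by
    intro j i
    obtain ⟨R, hR⟩ := hQdec j
    have h1 : T *ᵥ ((∑ r ∈ R, C.mu j r⁻¹ • A r) *ᵥ w₀) =
        (p : ℂ) • ((∑ r ∈ R, C.mu j r⁻¹ • A r) *ᵥ w₀) := by
      refine hTfix _ fun u hu => ?_
      simp only [Matrix.sum_mulVec, Matrix.smul_mulVec, Matrix.mulVec_sum, Matrix.mulVec_smul]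
      refine Finset.sum_congr rfl fun r _ => congrArg _ ?_
      have hu' : (r : G)⁻¹ * u * r ∈ P := by
        have := (Subgroup.mem_normalizer_iff.1 r.2 ((r : G)⁻¹ * u * r)).2
          (by rwa [show (r : G) * ((r : G)⁻¹ * u * r) * (r : G)⁻¹ = u by group])
        exact this
      rw [Matrix.mulVec_mulVec, ← map_mul,
        show u * (r : G) = r * ((r : G)⁻¹ * u * r) by group, map_mul, ← Matrix.mulVec_mulVec,
        hWfix _ (hwsW k₀) _ hu']
    simp only [wj, hR, ← Matrix.mulVec_mulVec, h1, smul_smul]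
    rw [show ((p : ℂ) * e)⁻¹ * p = (e : ℂ)⁻¹ by field_simp]
    refine mul_mem heV (mem_mulVec (fun i k => ?_) (hwsV k₀) i)
    rw [Matrix.sum_apply]
    exact sum_mem fun r _ => mul_mem (mem_of_integral (C.isIntegral_mu j _)) (hAV _ i k)
  have hwsum : ∑ j ∈ Finset.range e, wj j = w₀ := by
    simp only [wj, Q, Matrix.sum_mulVec, Matrix.smul_mulVec, Finset.smul_sum]
    rw [Finset.sum_comm]
    simp only [← Finset.smul_sum, ← Finset.sum_smul, C.sum_mu, InvMemClass.coe_inv, inv_mem_iff,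
      ite_smul, zero_smul]
    rw [Finset.sum_congr rfl (g := fun m : NN => if (m : G) ∈ P then (e : ℂ) • w₀ else 0)
      fun m _ => by
        split_ifs with h
        · rw [hWfix _ (hwsW k₀) _ h]
        · rfl,
      Finset.sum_ite, Finset.sum_const_zero, add_zero, Finset.sum_const, smul_comm,
      smul_smul (M := ℂ)]
    rw [show (Finset.univ.filter fun m : NN => (m : G) ∈ P).card = p by
        rw [← Fintype.card_subtype, ← Nat.card_eq_fintype_card, ← C.cardP]
        exact Nat.card_congr (Subgroup.subgroupOfEquivOfLe Subgroup.le_normalizer).toEquiv,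
      ← Nat.cast_smul_eq_nsmul ℂ, smul_smul,
      show (p : ℂ) * (((p : ℂ) * e)⁻¹ * e) = 1 by field_simp, one_smul]
  obtain ⟨j, hj, hjT⟩ : ∃ j < e, (fun i => res V (wj j i)) ∉ LinearMap.range Tb := by
    by_contra hall
    push Not at hall
    refine hk₀ ?_
    have h1 : (fun i => res V (w₀ i)) = ∑ j ∈ Finset.range e, fun i => res V (wj j i) := by
      funext i
      rw [Finset.sum_apply, ← res_sum _ _ fun j _ => hwjV j i, ← Finset.sum_apply, hwsum]
    rw [h1]
    exact sum_mem fun j hj => hall j (Finset.mem_range.1 hj)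
  obtain ⟨φ, hφ1, hφ0⟩ := Submodule.exists_dual_map_eq_bot_of_notMem hjT inferInstance
  choose ψ hψV hψ using fun i => exists_lift (φ (Pi.single i 1))
  have hψdot : ∀ v : Fin n → ℂ, (∀ i, v i ∈ V) → ψ ⬝ᵥ v ∈ V := fun v hv => by
    rw [dotProduct]
    exact sum_mem fun i _ => mul_mem (hψV i) (hv i)
  have hφres : ∀ v : Fin n → ℂ, (∀ i, v i ∈ V) →
      res V (ψ ⬝ᵥ v) = φ (fun i => res V (v i)) := by
    intro v hv
    conv_rhs => rw [pi_eq_sum_univ' (fun i => res V (v i))]
    rw [map_sum, dotProduct, res_sum _ _ fun i _ => mul_mem (hψV i) (hv i)]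
    refine Finset.sum_congr rfl fun i _ => ?_
    rw [map_smul, smul_eq_mul, res_mul (hψV i) (hv i), hψ, mul_comm]
  set s : ℂ := ψ ⬝ᵥ wj j with hs
  have hsV : s ∈ V := hψdot _ (hwjV j)
  have hsn : s ∉ V.nonunits := fun h => hφ1 (by rw [← hφres _ (hwjV j)]; exact (res_eq_zero_iff hsV).2 h)
  have hs0 : s ≠ 0 := fun h => hsn (by rw [h]; exact zero_mem _)
  have heig : ∀ m : NN, A m *ᵥ wj j = C.mu j m • wj j := fun m => by
    simp only [wj, Matrix.mulVec_smul, Matrix.mulVec_mulVec, hQleft j m, Matrix.smul_mulVec,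
      smul_comm (C.mu j m)]
  have hpe : (p : ℂ) * e ≠ 0 := mul_ne_zero hpc hec
  let c : G → ℂ := fun g => ((p : ℂ) * e * s)⁻¹ * (ψ ⬝ᵥ (Q j *ᵥ (A g *ᵥ wj j)))
  refine ⟨j, hj, c, ?_, ?_, ?_, ?_, ?_, ?_, ?_⟩
  · intro m g
    simp only [c, map_mul, ← Matrix.mulVec_mulVec]
    rw [Matrix.mulVec_mulVec _ (Q j) (A m), hQright, Matrix.smul_mulVec, dotProduct_smul,
      smul_eq_mul]
    ring
  · intro m g
    simp only [c, map_mul, ← Matrix.mulVec_mulVec]
    rw [heig m, Matrix.mulVec_smul, Matrix.mulVec_smul, dotProduct_smul, smul_eq_mul]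
    ring
  · simp only [c, map_one, Matrix.one_mulVec]
    rw [hQeig j _ heig, dotProduct_smul, smul_eq_mul, ← hs, inv_mul_cancel₀ (mul_ne_zero hpe hs0)]
  · intro g
    obtain ⟨R, hR⟩ := hQdec j
    have hV' : ∀ i, (A g *ᵥ wj j) i ∈ V := mem_mulVec (hAV g) (hwjV j)
    set z := (∑ r ∈ R, C.mu j r⁻¹ • A r) *ᵥ (A g *ᵥ wj j) with hz
    have hzV : ∀ i, z i ∈ V := mem_mulVec (fun i k => by
      rw [Matrix.sum_apply]
      exact sum_mem fun r _ => mul_mem (mem_of_integral (C.isIntegral_mu j _)) (hAV _ i k)) hV'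
    have hQz : Q j *ᵥ (A g *ᵥ wj j) = T *ᵥ z := by rw [hR, hz, ← Matrix.mulVec_mulVec _ T]
    have hnum : ψ ⬝ᵥ (T *ᵥ z) ∈ V.nonunits := by
      rw [← res_eq_zero_iff (hψdot _ (mem_mulVec hTV hzV)),
        hφres _ (mem_mulVec hTV hzV)]
      have h1 : φ (fun i => res V ((T *ᵥ z) i)) ∈ (LinearMap.range Tb).map φ :=
        Submodule.mem_map_of_mem ⟨fun k => res V (z k), by
          funext i
          rw [hTb, Matrix.toLin'_apply, res_mulVec hTV hzV]⟩
      rwa [hφ0, Submodule.mem_bot] at h1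
    show (p : ℂ) * c g ∈ V.nonunits
    simp only [c, hQz]
    rw [← mul_assoc, show (p : ℂ) * ((p : ℂ) * e * s)⁻¹ = (e : ℂ)⁻¹ * s⁻¹ by field_simp]
    exact mul_mem_nonunits (mul_mem heV (inv_mem_of_notMem_nonunits hsn)) hnum
  · intro θ hθ hne h
    have hS : ∑ g : G, θ g⁻¹ • LinearMap.toMatrix' (ρ g) = 0 := by
      obtain ⟨c', hc1, hc2⟩ := Char.sum_smul_rep_eq_scalar ρ hρ (f := fun g => θ g⁻¹)
        (fun g k => by simpa [mul_assoc] using Char.isClassFunction_of_isIrr hθ g⁻¹ k)
      have h0 : ∑ g : G, θ g⁻¹ * ρ.character g = 0 := by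
        have h1 := Char.classInner_irr_ne (ψ := θ) (⟨n, ρ, hρ, rfl⟩ :
          Cfsg.IsIrrCharacter G ρ.character) hθ (Ne.symm hne)
        simp only [Cfsg.classInner, mul_eq_zero, inv_eq_zero, Char.card_ne_zero, false_or] at h1
        rw [← h1]
        exact Finset.sum_congr rfl fun g _ => by
          rw [Char.IsChar.inv_eq_conj (Char.IsIrr.isCharacter hθ)]; ring
      rw [h0] at hc2
      have hn : (Module.finrank ℂ (Fin n → ℂ) : ℂ) ≠ 0 := by
        rw [← Representation.char_one ρ]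
        exact Char.IsIrr.one_ne_zero ⟨n, ρ, hρ, rfl⟩
      rw [(mul_eq_zero.1 hc2).resolve_right hn, zero_smul] at hc1
      have := congrArg LinearMap.toMatrix' hc1
      simpa [map_sum] using this
    have hA0 : ∑ g : G, θ g⁻¹ • A g = 0 := by
      simp only [hAB]
      rw [Finset.sum_congr rfl fun g _ => by
        rw [← Matrix.smul_mul, ← Matrix.mul_smul]]
      rw [← Finset.sum_mul, ← Finset.mul_sum, hS, Matrix.mul_zero, Matrix.zero_mul]
    have hA1 : ∑ g : G, θ (g * h) • A g⁻¹ = 0 := by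
      have e1 : ∑ g : G, θ (g * h) • A g⁻¹ = A h * ∑ g : G, θ g⁻¹ • A g := by
        rw [Finset.mul_sum]
        refine Fintype.sum_equiv ((Equiv.inv G).trans (Equiv.mulLeft h⁻¹)) _ _ fun g => ?_
        simp [← map_mul]
      rw [e1, hA0, Matrix.mul_zero]
    calc ∑ g, θ (g * h) * c g⁻¹
        = ((p : ℂ) * e * s)⁻¹ * (ψ ⬝ᵥ (Q j *ᵥ ((∑ g : G, θ (g * h) • A g⁻¹) *ᵥ wj j))) := by
          simp only [c, Matrix.sum_mulVec, Matrix.mulVec_sum, dotProduct_sum, Finset.mul_sum,
            Matrix.smul_mulVec, Matrix.mulVec_smul, dotProduct_smul, smul_eq_mul]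
          exact Finset.sum_congr rfl fun g _ => by ring
      _ = 0 := by rw [hA1, Matrix.zero_mulVec, Matrix.mulVec_zero, dotProduct_zero, mul_zero]
  · intro h0
    have h1 : ((p : ℂ) * e)⁻¹ • Q j = 0 := by
      refine idem_eq_zero ?_ ?_
      · have h2 : Q j * Q j = ((p : ℂ) * e) • Q j := by
          conv_lhs => arg 1; simp only [Q]
          rw [Finset.sum_mul, Finset.sum_congr rfl fun m _ => by
            rw [Matrix.smul_mul, hQleft, smul_smul, mul_comm, C.mu_mul_inv, one_smul],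
            Finset.sum_const, Finset.card_univ, ← Nat.card_eq_fintype_card, C.cardN,
            ← Nat.cast_smul_eq_nsmul ℂ, Nat.cast_mul]
        rw [Matrix.smul_mul, Matrix.mul_smul, h2, inv_smul_smul₀ hpe]
      · rw [Matrix.trace_smul]
        simp only [Q, Matrix.trace_sum, Matrix.trace_smul, htr, smul_eq_mul]
        rw [h0, mul_zero]
    have h3 : wj j = 0 := by
      have := hQeig j _ heig
      rw [(smul_eq_zero.1 h1).resolve_left (inv_ne_zero hpe), Matrix.zero_mulVec] at this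
      exact (smul_eq_zero.1 this.symm).resolve_left hpe
    exact hs0 (by rw [hs, h3, dotProduct_zero])
  · intro hone g
    set Q₁ : Matrix (Fin n) (Fin n) ℂ := ((p : ℂ) * e)⁻¹ • Q j with hQ₁
    set row : Fin n → ℂ := s⁻¹ • (ψ ᵥ* Q₁) with hrow
    have hQQ : Q₁ * Q₁ = Q₁ := by
      have h1 : Q j * Q j = ((p : ℂ) * e) • Q j := by
        conv_lhs => arg 1; simp only [Q]
        rw [Finset.sum_mul, Finset.sum_congr rfl fun m _ => by
          rw [Matrix.smul_mul, hQleft, smul_smul, mul_comm, C.mu_mul_inv, one_smul],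
          Finset.sum_const, Finset.card_univ, ← Nat.card_eq_fintype_card, C.cardN,
          ← Nat.cast_smul_eq_nsmul ℂ, Nat.cast_mul]
      rw [hQ₁, Matrix.smul_mul, Matrix.mul_smul, h1, inv_smul_smul₀ hpe]
    have hQw : Q₁ *ᵥ wj j = wj j := by
      rw [hQ₁, Matrix.smul_mulVec, hQeig j _ heig, inv_smul_smul₀ hpe]
    have hrw : row ⬝ᵥ wj j = 1 := by
      rw [hrow, smul_dotProduct, ← dotProduct_mulVec, hQw, ← hs, smul_eq_mul,
        inv_mul_cancel₀ hs0]
    have hrQ : row ᵥ* Q₁ = row := by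
      rw [hrow, Matrix.smul_vecMul, Matrix.vecMul_vecMul, hQQ]
    set R₁ := Matrix.vecMulVec (wj j) row
    have hRR : R₁ * R₁ = R₁ := by
      rw [Matrix.vecMulVec_mul_vecMulVec, hrw, one_smul]
    have hQR : Q₁ * R₁ = R₁ := by rw [Matrix.mul_vecMulVec, hQw]
    have hRQ : R₁ * Q₁ = R₁ := by rw [Matrix.vecMulVec_mul, hrQ]
    have htQ : Q₁.trace = 1 := by
      rw [hQ₁, Matrix.trace_smul]
      simp only [Q, Matrix.trace_sum, Matrix.trace_smul, htr, smul_eq_mul]
      rw [hone, inv_mul_cancel₀ hpe]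
    have hQ : Q₁ = R₁ := by
      refine sub_eq_zero.1 (idem_eq_zero ?_ ?_)
      · rw [Matrix.sub_mul, Matrix.mul_sub, Matrix.mul_sub, hQQ, hRR, hQR, hRQ, sub_self, sub_zero]
      · rw [Matrix.trace_sub, htQ, Matrix.trace_vecMulVec, dotProduct_comm, hrw, sub_self]
    calc c g = row ⬝ᵥ (A g *ᵥ wj j) := by
          simp only [c, hrow, hQ₁, smul_dotProduct, ← dotProduct_mulVec, Matrix.smul_mulVec,
            dotProduct_smul, smul_eq_mul, mul_inv]
          ring
      _ = (A g * R₁).trace := by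
          rw [Matrix.mul_vecMulVec, Matrix.trace_vecMulVec, dotProduct_comm]
      _ = _ := by
          rw [← hQ, hQ₁, Matrix.mul_smul, Matrix.trace_smul, smul_eq_mul]
          simp only [Q, Finset.mul_sum, Matrix.mul_smul, ← map_mul, Matrix.trace_sum,
            Matrix.trace_smul, htr, smul_eq_mul]

end Cfsg.Agent.PrimeSpherical
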