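import Mathlib
import Cfsg.Agent.PrimeSpherical.Witness

/-!
# Integral spherical functions exclude further characters

For a character taking Frobenius-fixed values modulo `p` and having multiplicity one on an
eigencharacter of the normalizer, the spherical function is integral.  Then no other irreducible
character has an eigenfunction for the same eigencharacter.
-/

set_option autoImplicit false

namespace Cfsg.Agent.PrimeSpherical

open Cfsg.Agent
open scoped _root_.Classical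

universe u

variable {G : Type u} [Group G] [Fintype G] {P : Subgroup G} {p e : ℕ}
  {V : ValuationSubring ℂ}

local notation "NN" => Subgroup.normalizer (SetLike.coe P)

/-- Numbers of `V` fixed by the `q`-th power modulo `p`. -/
def FrobFixed (V : ValuationSubring ℂ) (p q : ℕ) (z : ℂ) : Prop :=
  z ∈ V ∧ ∃ r ∈ V, z ^ q - z = (p : ℂ) * r

theorem frobFixed_of_pow {q m : ℕ} {z : ℂ} (hz : z ^ m = 1) (hm : 0 < m) (hq : 0 < q)
    (hmq : m ∣ q - 1) : FrobFixed V p q z := by
  refine ⟨mem_of_integral (IsIntegral.of_pow hm (by rw [hz]; exact isIntegral_one)), 0,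
    zero_mem V, ?_⟩
  obtain ⟨k, hk⟩ := hmq
  rw [show q = m * k + 1 by omega, pow_succ, pow_mul, hz, one_pow, one_mul, sub_self, mul_zero]

theorem frobFixed_add {k : ℕ} (hp : p.Prime) {x y : ℂ} (hx : FrobFixed V p (p ^ k) x)
    (hy : FrobFixed V p (p ^ k) y) : FrobFixed V p (p ^ k) (x + y) := by
  obtain ⟨hxV, r, hr, hxr⟩ := hx
  obtain ⟨hyV, s, hs, hys⟩ := hy
  obtain ⟨t, ht⟩ := exists_add_pow_prime_pow_eq hp (⟨x, hxV⟩ : V) ⟨y, hyV⟩ k
  have ht' := congrArg (fun a : V => (a : ℂ)) ht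
  push_cast at ht'
  refine ⟨add_mem hxV hyV, r + s + x * y * t,
    add_mem (add_mem hr hs) (mul_mem (mul_mem hxV hyV) t.2), ?_⟩
  rw [ht']
  linear_combination hxr + hys

theorem frobFixed_mul {q : ℕ} {x y : ℂ} (hx : FrobFixed V p q x) (hy : FrobFixed V p q y) :
    FrobFixed V p q (x * y) := by
  obtain ⟨hxV, r, hr, hxr⟩ := hx
  obtain ⟨hyV, s, hs, hys⟩ := hy
  refine ⟨mul_mem hxV hyV, r * y ^ q + x * s,
    add_mem (mul_mem hr (pow_mem hyV q)) (mul_mem hxV hs), ?_⟩
  rw [mul_pow]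
  linear_combination y ^ q * hxr + x * hys

theorem frobFixed_zero {q : ℕ} (hq : 0 < q) : FrobFixed V p q 0 :=
  ⟨zero_mem V, 0, zero_mem V, by rw [zero_pow hq.ne', sub_self, mul_zero]⟩

theorem frobFixed_sum {k : ℕ} (hp : p.Prime) {ι : Type*} (s : Finset ι) (f : ι → ℂ)
    (hf : ∀ i ∈ s, FrobFixed V p (p ^ k) (f i)) : FrobFixed V p (p ^ k) (∑ i ∈ s, f i) := by
  induction s using Finset.induction_on with
  | empty => simpa using frobFixed_zero (V := V) (p := p) (pow_pos hp.pos k)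
  | insert a s ha ih =>
    rw [Finset.sum_insert ha]
    exact frobFixed_add hp (hf a (Finset.mem_insert_self a s))
      (ih fun i hi => hf i (Finset.mem_insert_of_mem hi))

/-- Frobenius-fixed numbers in the maximal ideal are divisible by `p`. -/
theorem div_mem_of_frobFixed {q : ℕ} (hp : p.Prime) (hq : 2 ≤ q) {z : ℂ}
    (hz : FrobFixed V p q z) (hn : z ∈ V.nonunits) : z / p ∈ V := by
  obtain ⟨hzV, r, hr, hzr⟩ := hz
  have hw : z ^ (q - 1) ∈ V.nonunits := by
    rw [show q - 1 = q - 2 + 1 by omega, pow_succ]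
    exact mul_mem_nonunits (pow_mem hzV _) hn
  have hu : z ^ (q - 1) - 1 ∉ V.nonunits := fun h =>
    one_notMem_nonunits (V := V) (by simpa using sub_mem hw h)
  have hu0 : z ^ (q - 1) - 1 ≠ 0 := fun h => hu (by rw [h]; exact zero_mem _)
  have e1 : z * (z ^ (q - 1) - 1) = (p : ℂ) * r := by
    rw [mul_sub, mul_one, ← pow_succ', show q - 1 + 1 = q by omega, hzr]
  have hp0 : (p : ℂ) ≠ 0 := Nat.cast_ne_zero.2 hp.ne_zero
  have : z / p = r * (z ^ (q - 1) - 1)⁻¹ := by
    field_simp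
    linear_combination e1
  rw [this]
  exact mul_mem hr (inv_mem_of_notMem_nonunits hu)

/-- Values of characters at elements whose order divides `q - 1`. -/
theorem frobFixed_character {k : ℕ} (hp : p.Prime) {χ : G → ℂ} (hχ : Cfsg.IsCharacter G χ) (g : G)
    (hg : orderOf g ∣ p ^ k - 1) : FrobFixed V p (p ^ k) (χ g) := by
  obtain ⟨n, ρ, rfl⟩ := hχ
  obtain ⟨μ, b, -, hμ, he⟩ := Char.exists_eigenbasis ρ g
  rw [he]
  exact frobFixed_sum hp _ _ fun i _ =>
    frobFixed_of_pow (hμ i) (orderOf_pos g) (pow_pos hp.pos k) hg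

/-- The spherical function of a class function for the `j`-th eigencharacter. -/
noncomputable def sph (C : Ctx P p e) (χ : G → ℂ) (j : ℕ) (g : G) : ℂ :=
  ((p : ℂ) * e)⁻¹ * ∑ n : NN, C.mu j n⁻¹ * χ (g * n)

theorem sph_left (C : Ctx P p e) {χ : G → ℂ} (hχ : Cfsg.IsClassFunction G χ) (j : ℕ) (m : NN)
    (g : G) : sph C χ j (m * g) = C.mu j m * sph C χ j g := by
  rw [sph, sph, mul_left_comm]
  congr 1
  rw [Finset.mul_sum]
  refine Fintype.sum_equiv (Equiv.mulRight m) _ _ fun n => ?_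
  rw [Equiv.coe_mulRight, _root_.mul_inv_rev, map_mul (C.mu j), Subgroup.coe_mul, ← mul_assoc,
    ← mul_assoc, C.mu_mul_inv, one_mul]
  have h := hχ ((m : G) * g * n) (m : G)⁻¹
  rw [show (m : G)⁻¹ * ((m : G) * g * n) * (m : G)⁻¹⁻¹ = g * (n * m) by group] at h
  rw [h]

theorem sph_right (C : Ctx P p e) (χ : G → ℂ) (j : ℕ) (m : NN) (g : G) :
    sph C χ j (g * m) = sph C χ j g * C.mu j m := by
  rw [sph, sph, mul_assoc]
  congr 1
  rw [Finset.sum_mul]
  refine Fintype.sum_equiv (Equiv.mulLeft m) _ _ fun n => ?_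
  rw [Equiv.coe_mulLeft, _root_.mul_inv_rev, map_mul (C.mu j), Subgroup.coe_mul, mul_assoc g]
  linear_combination (-(C.mu j n⁻¹ * χ (g * (↑m * ↑n)))) * C.mu_mul_inv j m

theorem sph_inv (C : Ctx P p e) {χ : G → ℂ} (hχ : Cfsg.IsClassFunction G χ)
    (hreal : ∀ g, χ g⁻¹ = χ g) {j k : ℕ} (hjk : j + k = e) (g : G) :
    sph C χ j g⁻¹ = sph C χ k g := by
  simp only [sph]
  congr 1
  refine Fintype.sum_equiv (Equiv.inv NN) _ _ fun n => ?_
  rw [Equiv.inv_apply, inv_inv, InvMemClass.coe_inv, ← hreal (g⁻¹ * n), _root_.mul_inv_rev,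
    inv_inv]
  congr 1
  · have h1 : C.mu j n * C.mu k n = 1 := by
      rw [C.mu_apply, C.mu_apply, ← pow_add, hjk, ← Units.val_pow_eq_pow_val, C.pow,
        Units.val_one]
    calc C.mu j n⁻¹ = C.mu j n⁻¹ * (C.mu j n * C.mu k n) := by rw [h1, mul_one]
      _ = C.mu k n := by rw [← mul_assoc, mul_comm (C.mu j n⁻¹), C.mu_mul_inv, one_mul]
  · exact Char.classFun_mul_comm hχ _ _

/-- The spherical function of a multiplicity one eigencharacter is integral. -/
theorem sph_mem [Fact p.Prime] (hV : (p : ℂ) ∈ V.nonunits) (C : Ctx P p e) {k : ℕ} (hk : 0 < k)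
    (he : e ∣ p ^ k - 1) {χ : G → ℂ} (hval : ∀ g, FrobFixed V p (p ^ k) (χ g)) {j : ℕ}
    {c : G → ℂ} (hc : Wit V C χ j c) (hone : ∑ n : NN, C.mu j n⁻¹ * χ n = (p : ℂ) * e) (g : G) :
    sph C χ j g ∈ V := by
  have hp : p.Prime := Fact.out
  have hpc : (p : ℂ) ≠ 0 := Nat.cast_ne_zero.2 hp.ne_zero
  have hec : (e : ℂ) ≠ 0 := Nat.cast_ne_zero.2 C.e_pos.ne'
  have h1 : c g = sph C χ j g := hc.canon hone g
  rw [← h1]
  set z := ∑ n : NN, C.mu j n⁻¹ * χ (g * n) with hz
  have hzF : FrobFixed V p (p ^ k) z := frobFixed_sum hp _ _ fun n _ =>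
    frobFixed_mul (frobFixed_of_pow (m := e) (by
      rw [C.mu_apply, ← pow_mul, mul_comm, pow_mul, ← Units.val_pow_eq_pow_val, C.pow,
        Units.val_one, one_pow]) C.e_pos (pow_pos hp.pos k) he) (hval _)
  have hze : z = (e : ℂ) * ((p : ℂ) * c g) := by
    rw [h1, sph, ← hz]
    field_simp
  have hzn : z ∈ V.nonunits := by
    rw [hze]
    exact mul_mem_nonunits (natCast_mem V e) (hc.small g)
  have h2 := div_mem_of_frobFixed hp ((hp.two_le).trans (Nat.le_self_pow hk.ne' p)) hzF hzn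
  have h3 : c g = (e : ℂ)⁻¹ * (z / p) := by rw [hze]; field_simp
  rw [h3]
  exact mul_mem (inv_mem_of_notMem_nonunits (natCast_notMem_nonunits hp hV C.he)) h2

omit [Fintype G] in
/-- Two elements of a subgroup of prime order conjugate under `g` put `g` in the normalizer. -/
theorem mem_normalizer_of_conj [Fact p.Prime] (hP : Nat.card P = p) {u g : G} (hu : u ∈ P)
    (hu1 : u ≠ 1) (h : g⁻¹ * u * g ∈ P) : g ∈ NN := by
  have hgen : ∀ v ∈ P, v ≠ 1 → ∀ w ∈ P, ∃ i : ℤ, v ^ i = w := by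
    intro v hv hv1 w hw
    obtain ⟨i, hi⟩ := Subgroup.mem_zpowers_iff.1 (mem_zpowers_of_prime_card (G := P) hP
      (g := ⟨v, hv⟩) (g' := ⟨w, hw⟩) fun e' => hv1 (congrArg Subtype.val e'))
    exact ⟨i, by simpa using congrArg Subtype.val hi⟩
  have h1 : g⁻¹ * u * g ≠ 1 := fun e' => hu1 (by
    have := congrArg (fun x => g * x * g⁻¹) e'
    simpa [mul_assoc] using this)
  refine Subgroup.mem_normalizer_iff.2 fun a => ⟨fun ha => ?_, fun ha => ?_⟩
  · obtain ⟨i, rfl⟩ := hgen _ h h1 a ha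
    rw [← conj_zpow, show g * (g⁻¹ * u * g) * g⁻¹ = u by group]
    exact zpow_mem hu i
  · obtain ⟨i, hi⟩ := hgen _ hu hu1 _ ha
    have e1 : a = g⁻¹ * u ^ i * g := by rw [hi]; group
    have e2 : g⁻¹ * u ^ i * g = (g⁻¹ * u * g) ^ i := by
      have := conj_zpow (i := i) (a := g⁻¹) (b := u)
      rw [inv_inv] at this
      exact this.symm
    rw [e1, e2]
    exact zpow_mem h i

/-- No character other than the one with the integral spherical function has an eigenfunction. -/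
theorem false_of_wit [Fact p.Prime] (hV : (p : ℂ) ∈ V.nonunits) (C : Ctx P p e) {ψ χ : G → ℂ}
    (hψ : Cfsg.IsIrrCharacter G ψ) (hne : χ ≠ ψ) {j : ℕ} (hint : ∀ g, sph C ψ j g ∈ V)
    (hone : ∑ n : NN, C.mu j n⁻¹ * ψ n = (p : ℂ) * e) {c : G → ℂ} (hc : Wit V C χ j c) : False := by
  have hp : p.Prime := Fact.out
  have hpc : (p : ℂ) ≠ 0 := Nat.cast_ne_zero.2 hp.ne_zero
  have hec : (e : ℂ) ≠ 0 := Nat.cast_ne_zero.2 C.e_pos.ne'
  have hψc := Char.isClassFunction_of_isIrr hψ
  let F : G → ℂ := fun g => sph C ψ j g * c g⁻¹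
  have htot : ∑ g, F g = 0 := by
    simp only [F, sph, Finset.mul_sum, Finset.sum_mul]
    rw [Finset.sum_comm]
    refine Finset.sum_eq_zero fun n _ => ?_
    rw [Finset.sum_congr rfl fun g _ => show
      ((p : ℂ) * e)⁻¹ * (C.mu j n⁻¹ * ψ (g * n)) * c g⁻¹ =
        ((p : ℂ) * e)⁻¹ * C.mu j n⁻¹ * (ψ (g * n) * c g⁻¹) by ring, ← Finset.mul_sum,
      hc.orth ψ hψ (Ne.symm hne), mul_zero]
  have hbi : ∀ (m n : NN) (g : G), F (m * g * n) = F g := by
    intro m n g
    simp only [F]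
    rw [sph_right, sph_left C hψc, _root_.mul_inv_rev, _root_.mul_inv_rev,
      ← InvMemClass.coe_inv n, ← InvMemClass.coe_inv m, hc.left, hc.right]
    linear_combination (sph C ψ j g * c g⁻¹ * (C.mu j n * C.mu j n⁻¹)) * C.mu_mul_inv j m +
      (sph C ψ j g * c g⁻¹) * C.mu_mul_inv j n
  have hF1 : F 1 = 1 := by
    simp only [F, sph, inv_one, one_mul, hc.one, mul_one, hone]
    exact inv_mul_cancel₀ (mul_ne_zero hpc hec)
  have hN : ∑ g ∈ Finset.univ.filter (fun g : G => g ∈ NN), F g = (p : ℂ) * e := by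
    rw [Finset.sum_congr rfl (g := fun _ => (1 : ℂ)) fun g hg => by
        have := hbi ⟨g, (Finset.mem_filter.1 hg).2⟩ 1 1
        simp only [OneMemClass.coe_one, mul_one] at this
        rw [this, hF1]]
    rw [Finset.sum_const, nsmul_one, ← Fintype.card_subtype, ← Nat.card_eq_fintype_card]
    exact_mod_cast C.cardN
  let act : MulAction (P × P) G :=
    { smul := fun k g => (k.1 : G) * g * (k.2 : G)⁻¹
      one_smul := fun g => by
        show ((1 : P) : G) * g * ((1 : P) : G)⁻¹ = g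
        simp
      mul_smul := fun a b g => by
        show ((a.1 * b.1 : P) : G) * g * ((a.2 * b.2 : P) : G)⁻¹ =
          (a.1 : G) * ((b.1 : G) * g * (b.2 : G)⁻¹) * (a.2 : G)⁻¹
        simp [mul_assoc] }
  have hPN : P ≤ NN := Subgroup.le_normalizer
  obtain ⟨R, -, hR⟩ := sum_free_orbits (K := P × P) F
    (Finset.univ.filter fun g : G => g ∉ NN) (fun g hg k => by
      simp only [Finset.mem_filter, Finset.mem_univ, true_and] at hg ⊢
      intro h
      refine hg ?_
      have h1 := mul_mem (mul_mem (inv_mem (hPN k.1.2)) h) (hPN k.2.2)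
      rwa [show (k.1 : G)⁻¹ * (k • g) * (k.2 : G) = g by
        show (k.1 : G)⁻¹ * ((k.1 : G) * g * (k.2 : G)⁻¹) * (k.2 : G) = g
        group] at h1)
    (fun g hg k hk => by
      simp only [Finset.mem_filter, Finset.mem_univ, true_and] at hg
      have hk' : (k.1 : G) * g * (k.2 : G)⁻¹ = g := hk
      have h2 : g⁻¹ * (k.1 : G) * g = k.2 := by
        rw [mul_inv_eq_iff_eq_mul] at hk'
        rw [mul_assoc, hk', inv_mul_cancel_left]
      have hk1 : (k.1 : G) = 1 := by
        by_contra hne1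
        exact hg (mem_normalizer_of_conj C.cardP k.1.2 hne1 (by rw [h2]; exact k.2.2))
      rw [hk1, mul_one, inv_mul_cancel] at h2
      exact Prod.ext (Subtype.ext hk1) (Subtype.ext h2.symm))
  have hoff : ∑ g ∈ Finset.univ.filter (fun g : G => g ∉ NN), F g =
      (p : ℂ) * ∑ r ∈ R, (p : ℂ) * F r := by
    rw [hR, Finset.mul_sum]
    refine Finset.sum_congr rfl fun r _ => ?_
    rw [Finset.sum_congr rfl (g := fun _ => F r) fun k _ => by
        have h := hbi ⟨k.1, hPN k.1.2⟩ ⟨(k.2 : G)⁻¹, inv_mem (hPN k.2.2)⟩ r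
        exact h]
    rw [Finset.sum_const, Finset.card_univ, ← Nat.card_eq_fintype_card, Nat.card_prod, C.cardP,
      nsmul_eq_mul]
    push_cast
    ring
  have hsum := Finset.sum_filter_add_sum_filter_not Finset.univ (fun g : G => g ∈ NN) F
  rw [htot, hN, hoff] at hsum
  have he : (e : ℂ) = -∑ r ∈ R, (p : ℂ) * F r :=
    mul_left_cancel₀ hpc (by linear_combination hsum)
  refine natCast_notMem_nonunits hp hV C.he (he ▸ neg_mem (sum_mem fun r _ => ?_))
  show (p : ℂ) * (sph C ψ j r * c r⁻¹) ∈ V.nonunits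
  rw [mul_left_comm]
  exact mul_mem_nonunits (hint r) (hc.small _)

end Cfsg.Agent.PrimeSpherical
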